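import Cfsg.Agent.H634.OneP.Def
import Cfsg.Agent.H836.Sylow
import Cfsg.Agent.Blocks.Central
import Cfsg.Agent.Blocks.Basic

/-!
# S4880, block half, B7: stability of the reductions

`stable`: the reduction modulo `V` of a character in the principal block of `C_G(x)`, `|x| = p`, a Sylow `p`-subgroup of order
`p ^ 2`, is constant on the `p`-regular elements of `C_G(x)` which are conjugate in `G`, if this holds for `N_G(⟨x⟩)`.
-/

set_option autoImplicit false

open Cfsg IsLocalRing

namespace Cfsg.Agent.H417.OneP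

open Cfsg.Agent.H634.OneP Cfsg.Agent.H657 Cfsg.Agent.Blocks.Local

universe u

section A

variable {H : Type u} [Group H] [Finite H] {p : ℕ} {M : Ideal AlgInt} {V : ValuationSubring ℂ}

theorem irr_mem (hV : Above M V) (ψ : IrrCharacter H) (h : H) : (ψ : H → ℂ) h ∈ V :=
  hV.mem ⟨(ψ : H → ℂ) h, Cfsg.Agent.Blocks.Central.isIntegral_irr ψ.2 h⟩

/-- a class of size prime to `p` -/
theorem rd_eq_one (hM : IsPModular p M) (hV : Above M V) {ψ : IrrCharacter H} (hψ : ψ ∈ principalBlock M H)
    {s : H} (hs : ¬ p ∣ (Subgroup.centralizer ({s} : Set H)).index) :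
    rd V (ψ : H → ℂ) s = rd V (ψ : H → ℂ) 1 := by
  have : M.IsPrime := isPrime_of_isPModular hM
  set d := (Subgroup.centralizer ({s} : Set H)).index with hd
  have h1 : MemLocalIdeal M (centralChar (fun _ : H => (1 : ℂ)) s - centralChar (ψ : H → ℂ) s) := hψ s
  have hne : (ψ : H → ℂ) 1 ≠ 0 := Cfsg.Agent.Blocks.Basic.irr_one_ne_zero ψ.2
  have hring : ∀ h : H, MemLocalRing M ((ψ : H → ℂ) h) := fun h =>
    memLocalRing_of_isIntegral (Cfsg.Agent.Blocks.Central.isIntegral_irr ψ.2 h)
  have hd0 : (d : ℂ) ≠ 0 := by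
    intro h0
    apply hs
    rw [Nat.cast_eq_zero.1 h0]
    exact dvd_zero p
  have h2 := memLocalIdeal_mul_right h1 (hring 1)
  have h3 := memLocalIdeal_mul_left (memLocalRing_inv_natCast hM hs) h2
  have h4 : ((d : ℂ))⁻¹ * ((centralChar (fun _ : H => (1 : ℂ)) s - centralChar (ψ : H → ℂ) s) * (ψ : H → ℂ) 1) =
      (ψ : H → ℂ) 1 - (ψ : H → ℂ) s := by
    rw [Cfsg.Agent.Blocks.Basic.centralChar_def, Cfsg.Agent.Blocks.Basic.centralChar_def, ← hd]
    field_simp
  rw [h4] at h3
  have h5 := hV.nonunit_of_local hM.2.1 h3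
  rw [rd_of (irr_mem hV ψ s), rd_of (irr_mem hV ψ 1)]
  symm
  rw [← sub_eq_zero, ← map_sub, Above.residue_eq_zero_iff']
  exact h5

end A

section B

variable {G : Type u} [Group G] [Finite G] {p : ℕ} [hp : Fact p.Prime]

/-- `x` of order `p` in the centralizer of `s`, of order divisible by `p ^ 2`: the class of `s` in `C_G(x)` has size prime to `p` -/
theorem not_dvd_index (P : Sylow p G) (hP : Nat.card P = p ^ 2) {x : G} (hxo : orderOf x = p)
    (s : Subgroup.centralizer ({x} : Set G)) (h : p ^ 2 ∣ Nat.card (Subgroup.centralizer ({(s : G)} : Set G))) :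
    ¬ p ∣ (Subgroup.centralizer ({s} : Set (Subgroup.centralizer ({x} : Set G)))).index := by
  have hxs : x ∈ Subgroup.centralizer ({(s : G)} : Set G) := by
    rw [Subgroup.mem_centralizer_singleton_iff]
    have := Subgroup.mem_centralizer_singleton_iff.1 s.2
    exact this.symm
  -- a subgroup of order `p ^ 2` of the centralizer of `s` with `x`
  obtain ⟨Q, hQ, hxQ⟩ := Sylow.exists_subgroup_card_pow_prime_le p h
    (Subgroup.zpowers (⟨x, hxs⟩ : Subgroup.centralizer ({(s : G)} : Set G)))
    (n := 1) (by rw [Nat.card_zpowers, Subgroup.orderOf_mk, hxo, pow_one]) one_le_two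
  have hcomm : ∀ a b : Q, a * b = b * a := (IsPGroup.isMulCommutative_of_card_eq_prime_sq hQ).is_comm.comm
  have hxQ' : (⟨x, hxs⟩ : Subgroup.centralizer ({(s : G)} : Set G)) ∈ Q := hxQ (Subgroup.mem_zpowers _)
  have hqx : ∀ q : Q, ((q : Subgroup.centralizer ({(s : G)} : Set G)) : G) ∈ Subgroup.centralizer ({x} : Set G) := by
    intro q
    rw [Subgroup.mem_centralizer_singleton_iff]
    have := congrArg (fun z : Q => ((z : Subgroup.centralizer ({(s : G)} : Set G)) : G)) (hcomm q ⟨_, hxQ'⟩)
    simpa using this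
  let f : Q →* (Subgroup.centralizer ({s} : Set (Subgroup.centralizer ({x} : Set G)))) :=
    { toFun := fun q => ⟨⟨q, hqx q⟩, by
        rw [Subgroup.mem_centralizer_singleton_iff]
        apply Subtype.ext
        exact Subgroup.mem_centralizer_singleton_iff.1 (q : Subgroup.centralizer ({(s : G)} : Set G)).2⟩
      map_one' := rfl
      map_mul' := fun _ _ => rfl }
  have hf : Function.Injective f := by
    intro a b hab
    apply Subtype.ext
    apply Subtype.ext
    exact congrArg (fun z : (Subgroup.centralizer ({s} : Set (Subgroup.centralizer ({x} : Set G)))) =>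
      ((z : Subgroup.centralizer ({x} : Set G)) : G)) hab
  have h1 : p ^ 2 ∣ Nat.card (Subgroup.centralizer ({s} : Set (Subgroup.centralizer ({x} : Set G)))) := by
    rw [← hQ]
    exact Subgroup.card_dvd_of_injective f hf
  intro h2
  have h3 : p ^ 3 ∣ Nat.card (Subgroup.centralizer ({x} : Set G)) := by
    rw [← Subgroup.card_mul_index (Subgroup.centralizer ({s} : Set (Subgroup.centralizer ({x} : Set G))))]
    rw [pow_succ]
    exact mul_dvd_mul h1 h2
  have h4 : p ^ 3 ∣ Nat.card G := h3.trans (Subgroup.card_subgroup_dvd_card _)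
  have h5 : Nat.card P = p ^ (Nat.card G).factorization p := P.card_eq_multiplicity
  rw [hP] at h5
  have h6 : (Nat.card G).factorization p = 2 := (Nat.pow_right_injective hp.out.two_le h5).symm
  have h7 := (hp.out.pow_dvd_iff_le_factorization Nat.card_pos.ne').1 h4
  omega

omit [Finite G] in
/-- conjugate elements have centralizers of the same order -/
theorem card_centralizer_conj (g s : G) : Nat.card (Subgroup.centralizer ({g * s * g⁻¹} : Set G)) =
    Nat.card (Subgroup.centralizer ({s} : Set G)) := by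
  have h : (Subgroup.centralizer ({s} : Set G)).map (MulAut.conj g).toMonoidHom =
      Subgroup.centralizer ({g * s * g⁻¹} : Set G) := by
    ext z
    rw [Subgroup.mem_map, Subgroup.mem_centralizer_singleton_iff]
    constructor
    · rintro ⟨y, hy, rfl⟩
      have hy' := Subgroup.mem_centralizer_singleton_iff.1 hy
      change (g * y * g⁻¹) * (g * s * g⁻¹) = (g * s * g⁻¹) * (g * y * g⁻¹)
      calc (g * y * g⁻¹) * (g * s * g⁻¹) = g * (y * s) * g⁻¹ := by group
        _ = g * (s * y) * g⁻¹ := by rw [hy']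
        _ = (g * s * g⁻¹) * (g * y * g⁻¹) := by group
    · intro hz
      refine ⟨g⁻¹ * z * g, ?_, ?_⟩
      · rw [Subgroup.mem_centralizer_singleton_iff]
        calc g⁻¹ * z * g * s = g⁻¹ * (z * (g * s * g⁻¹)) * g := by group
          _ = g⁻¹ * ((g * s * g⁻¹) * z) * g := by rw [hz]
          _ = s * (g⁻¹ * z * g) := by group
      · change g * (g⁻¹ * z * g) * g⁻¹ = z
        group
  rw [← h]
  exact Subgroup.card_map_of_injective (MulAut.conj g).injective

variable {M : Ideal AlgInt} {V : ValuationSubring ℂ}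

/-- B7. `G`-stability of the reductions, from the stability under `N_G(⟨x⟩)`. -/
theorem stable (hM : IsPModular p M) (hV : Above M V) (P : Sylow p G) (hP : Nat.card P = p ^ 2)
    {x : G} (hxo : orderOf x = p)
    {ψ : IrrCharacter (Subgroup.centralizer ({x} : Set G))}
    (hψ : ψ ∈ principalBlock M (Subgroup.centralizer ({x} : Set G)))
    (htriv : ∀ n ∈ Subgroup.normalizer ((Subgroup.zpowers x : Subgroup G) : Set G),
      ∀ s s' : Subgroup.centralizer ({x} : Set G), ¬ p ∣ orderOf s → (s' : G) = n * s * n⁻¹ →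
        (ψ : Subgroup.centralizer ({x} : Set G) → ℂ) s' =
          (ψ : Subgroup.centralizer ({x} : Set G) → ℂ) s)
    (s s' : Subgroup.centralizer ({x} : Set G)) (hs : ¬ p ∣ orderOf s)
    (hc : IsConj (s : G) (s' : G)) :
    rd V (ψ : Subgroup.centralizer ({x} : Set G) → ℂ) s' =
      rd V (ψ : Subgroup.centralizer ({x} : Set G) → ℂ) s := by
  obtain ⟨g, hg⟩ := isConj_iff.1 hc
  have hcard : Nat.card (Subgroup.centralizer ({(s' : G)} : Set G)) =
      Nat.card (Subgroup.centralizer ({(s : G)} : Set G)) := by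
    rw [← hg]
    exact card_centralizer_conj g s
  by_cases h : p ^ 2 ∣ Nat.card (Subgroup.centralizer ({(s : G)} : Set G))
  · rw [rd_eq_one hM hV hψ (not_dvd_index P hP hxo s h),
      rd_eq_one hM hV hψ (not_dvd_index P hP hxo s' (by rw [hcard]; exact h))]
  · -- two Sylow subgroups of the centralizer of `s'`
    have hxs' : x ∈ Subgroup.centralizer ({(s' : G)} : Set G) := by
      rw [Subgroup.mem_centralizer_singleton_iff]
      exact (Subgroup.mem_centralizer_singleton_iff.1 s'.2).symm
    have hxs : x * (s : G) = (s : G) * x := (Subgroup.mem_centralizer_singleton_iff.1 s.2).symm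
    have hgs' : g * x * g⁻¹ ∈ Subgroup.centralizer ({(s' : G)} : Set G) := by
      rw [Subgroup.mem_centralizer_singleton_iff, ← hg]
      calc (g * x * g⁻¹) * (g * s * g⁻¹) = g * (x * s) * g⁻¹ := by group
        _ = g * (s * x) * g⁻¹ := by rw [hxs]
        _ = (g * s * g⁻¹) * (g * x * g⁻¹) := by group
    have hX : Nat.card (Subgroup.zpowers (⟨x, hxs'⟩ : Subgroup.centralizer ({(s' : G)} : Set G))) = p := by
      rw [Nat.card_zpowers, Subgroup.orderOf_mk, hxo]
    have hY : Nat.card (Subgroup.zpowers (⟨g * x * g⁻¹, hgs'⟩ : Subgroup.centralizer ({(s' : G)} : Set G))) = p := by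
      rw [Nat.card_zpowers, Subgroup.orderOf_mk]
      rw [← hxo]
      exact orderOf_injective (MulAut.conj g).toMonoidHom (MulAut.conj g).injective x
    obtain ⟨c, hc'⟩ := Cfsg.Agent.H836.Sylow.conj_of_card hp.out (by rw [hcard]; exact h) hY hX
    have h1 : c * (⟨g * x * g⁻¹, hgs'⟩ : Subgroup.centralizer ({(s' : G)} : Set G)) * c⁻¹ ∈
        Subgroup.zpowers (⟨x, hxs'⟩ : Subgroup.centralizer ({(s' : G)} : Set G)) := by
      rw [← hc']
      exact ⟨_, Subgroup.mem_zpowers _, rfl⟩
    obtain ⟨k, hk⟩ := Subgroup.mem_zpowers_iff.1 h1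
    have h2 : x ^ k = (c : G) * (g * x * g⁻¹) * (c : G)⁻¹ := by
      have := congrArg (fun z : Subgroup.centralizer ({(s' : G)} : Set G) => (z : G)) hk
      simpa using this
    -- the element of the normalizer
    set n : G := (c : G) * g with hn
    have h3 : n * x * n⁻¹ = x ^ k := by
      rw [h2, hn]
      group
    have hle : (Subgroup.zpowers x).map (MulAut.conj n).toMonoidHom ≤ Subgroup.zpowers x := by
      rw [MonoidHom.map_zpowers, Subgroup.zpowers_le]
      change n * x * n⁻¹ ∈ Subgroup.zpowers x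
      rw [h3]
      exact Subgroup.zpow_mem _ (Subgroup.mem_zpowers x) k
    have heq : (Subgroup.zpowers x).map (MulAut.conj n).toMonoidHom = Subgroup.zpowers x := by
      apply Subgroup.eq_of_le_of_card_ge hle
      rw [Subgroup.card_map_of_injective (MulAut.conj n).injective]
    have hnN : n ∈ Subgroup.normalizer ((Subgroup.zpowers x : Subgroup G) : Set G) := by
      rw [Subgroup.mem_normalizer_iff]
      intro z
      constructor
      · intro hz
        have hz' : MulAut.conj n z ∈ (Subgroup.zpowers x).map (MulAut.conj n).toMonoidHom := ⟨z, hz, rfl⟩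
        rw [heq] at hz'
        exact hz'
      · intro hz
        have hz' : MulAut.conj n z ∈ Subgroup.zpowers x := hz
        rw [← heq] at hz'
        obtain ⟨w, hw, hwz⟩ := hz'
        have : w = z := (MulAut.conj n).injective hwz
        rw [← this]
        exact hw
    have hcs' : (c : G) * (s' : G) * (c : G)⁻¹ = s' := by
      rw [mul_inv_eq_iff_eq_mul]
      exact Subgroup.mem_centralizer_singleton_iff.1 c.2
    have h4 : (s' : G) = n * s * n⁻¹ := by
      calc (s' : G) = (c : G) * (s' : G) * (c : G)⁻¹ := hcs'.symm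
        _ = (c : G) * (g * s * g⁻¹) * (c : G)⁻¹ := congrArg (fun z : G => (c : G) * z * (c : G)⁻¹) hg.symm
        _ = n * s * n⁻¹ := by rw [hn]; group
    have h5 := htriv n hnN s s' hs h4
    unfold rd
    rw [h5]

end B

end Cfsg.Agent.H417.OneP
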